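import Cfsg.Prelude.Def_Amalgam
import Cfsg.Agent.Lib.Cores.Basic

/-!
Sylow subgroups of finite subgroups of a possibly infinite group, as subgroups of the ambient group,
together with `pCoreOf`, `omegaOne`, `sylowCenterClosure` and `pElementClosure` facts.
-/

set_option autoImplicit false

namespace Cfsg.Agent.Lib.CosetGraph.SylowIn

open Cfsg

variable {X : Type*} [Group X] {p : ℕ}

/-- `T` is a Sylow `p`-subgroup of the finite subgroup `H`, inside the ambient group. -/
structure IsSylowIn (p : ℕ) (T H : Subgroup X) : Prop where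
  le : T ≤ H
  card_eq : Nat.card T = p ^ (Nat.card H).factorization p

theorem IsSylowIn.isPGroup {T H : Subgroup X} (h : IsSylowIn p T H) : IsPGroup p T :=
  IsPGroup.of_card h.card_eq

theorem isSylowIn_map_sylow [Fact p.Prime] {H : Subgroup X} [Finite H] (S : Sylow p H) :
    IsSylowIn p ((S : Subgroup H).map H.subtype) H :=
  ⟨Subgroup.map_subtype_le _,
    (Subgroup.card_map_of_injective H.subtype_injective).trans S.card_eq_multiplicity⟩

theorem IsSylowIn.exists_sylow [Fact p.Prime] {T H : Subgroup X} [Finite H] (h : IsSylowIn p T H) :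
    ∃ S : Sylow p H, T = (S : Subgroup H).map H.subtype := by
  have hcard : Nat.card (T.subgroupOf H) = p ^ (Nat.card H).factorization p := by
    rw [← h.card_eq]; exact Nat.card_congr (Subgroup.subgroupOfEquivOfLe h.le).toEquiv
  refine ⟨Sylow.ofCard _ hcard, ?_⟩
  rw [Sylow.coe_ofCard, Subgroup.map_subgroupOf_eq_of_le h.le]

theorem exists_isSylowIn [Fact p.Prime] (H : Subgroup X) [Finite H] : ∃ T, IsSylowIn p T H :=
  ⟨_, isSylowIn_map_sylow (Classical.arbitrary (Sylow p H))⟩

theorem mem_normalizer_iff_map {H : Subgroup X} {h : X} :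
    h ∈ Subgroup.normalizer (H : Set X) ↔ H.map (MulAut.conj h).toMonoidHom = H :=
  Subgroup.mem_normalizer_iff_map_conj_eq

theorem conj_map_eq_self {H : Subgroup X} {h : X} (hh : h ∈ Subgroup.normalizer (H : Set X)) :
    H.map (MulAut.conj h).toMonoidHom = H :=
  mem_normalizer_iff_map.1 hh

theorem IsSylowIn.map {X' : Type*} [Group X'] {T H : Subgroup X} (h : IsSylowIn p T H)
    (e : X →* X') (he : Function.Injective e) : IsSylowIn p (T.map e) (H.map e) :=
  ⟨Subgroup.map_mono h.le, by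
    rw [Subgroup.card_map_of_injective he, Subgroup.card_map_of_injective he, h.card_eq]⟩

theorem IsSylowIn.conj {T H : Subgroup X} (h : IsSylowIn p T H) (x : X) :
    IsSylowIn p (T.map (MulAut.conj x).toMonoidHom) (H.map (MulAut.conj x).toMonoidHom) :=
  h.map _ (MulAut.conj x).injective

theorem IsSylowIn.of_le_le [Fact p.Prime] {T K H : Subgroup X} [Finite H] (h : IsSylowIn p T H)
    (hTK : T ≤ K) (hKH : K ≤ H) : IsSylowIn p T K := by
  refine ⟨hTK, ?_⟩
  have : Finite K := Finite.of_injective _ (Subgroup.inclusion_injective hKH)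
  have h1 : p ^ (Nat.card H).factorization p ∣ p ^ (Nat.card K).factorization p := by
    have := Subgroup.card_dvd_of_le hTK
    rw [h.card_eq] at this
    exact Nat.pow_dvd_pow _ ((Nat.Prime.pow_dvd_iff_le_factorization Fact.out Nat.card_pos.ne').1 this)
  have h2 : p ^ (Nat.card K).factorization p ∣ p ^ (Nat.card H).factorization p :=
    Nat.ordProj_dvd_ordProj_of_dvd Nat.card_pos.ne' (Subgroup.card_dvd_of_le hKH) p
  rw [h.card_eq]; exact Nat.dvd_antisymm h1 h2

theorem IsSylowIn.exists_conj [Fact p.Prime] {T T' H : Subgroup X} [Finite H] (h : IsSylowIn p T H)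
    (h' : IsSylowIn p T' H) : ∃ g ∈ H, T.map (MulAut.conj g).toMonoidHom = T' := by
  obtain ⟨S, rfl⟩ := h.exists_sylow
  obtain ⟨S', rfl⟩ := h'.exists_sylow
  obtain ⟨g, hg⟩ := MulAction.exists_smul_eq H S S'
  refine ⟨g, g.2, ?_⟩
  rw [← hg, Sylow.coe_subgroup_smul]
  ext y
  constructor
  · rintro ⟨_, ⟨a, ha, rfl⟩, rfl⟩
    exact ⟨g * a * g⁻¹, Subgroup.smul_mem_pointwise_smul a _ _ ha, rfl⟩
  · rintro ⟨b, ⟨a, ha, rfl⟩, rfl⟩
    exact ⟨a, ⟨a, ha, rfl⟩, rfl⟩

theorem IsSylowIn.exists_le [Fact p.Prime] {P H : Subgroup X} [Finite H] (hP : IsPGroup p P)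
    (hPH : P ≤ H) : ∃ T, IsSylowIn p T H ∧ P ≤ T := by
  obtain ⟨S, hS⟩ := (hP.comap_subtype (K := H)).exists_le_sylow
  exact ⟨_, isSylowIn_map_sylow S, fun x hx => ⟨⟨x, hPH hx⟩, hS hx, rfl⟩⟩

/-! ### pCoreOf -/

theorem pCoreOf_le (p : ℕ) (H : Subgroup X) : pCoreOf p H ≤ H := Subgroup.map_subtype_le _

theorem le_normalizer_map_subtype (H : Subgroup X) (N : Subgroup H) [N.Normal] :
    H ≤ Subgroup.normalizer (N.map H.subtype : Set X) := by
  intro h hh
  rw [mem_normalizer_iff_map, Subgroup.map_map]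
  conv_rhs => rw [← Subgroup.map_id N]
  have : ((MulAut.conj h).toMonoidHom.comp H.subtype)
      = H.subtype.comp (MulAut.conj (⟨h, hh⟩ : H)).toMonoidHom := by
    ext x; rfl
  rw [this, ← Subgroup.map_map, Subgroup.map_id]
  congr 1
  exact mem_normalizer_iff_map.1 (by rw [Subgroup.normalizer_eq_top]; trivial)

theorem le_normalizer_pCoreOf (p : ℕ) (H : Subgroup X) :
    H ≤ Subgroup.normalizer (pCoreOf p H : Set X) :=
  le_normalizer_map_subtype H (pCore p H)

theorem isPGroup_pCoreOf (p : ℕ) (H : Subgroup X) [Finite H] : IsPGroup p (pCoreOf p H) :=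
  (Cfsg.Agent.Lib.Cores.pCore_isPGroup p).map H.subtype

theorem le_pCoreOf {N H : Subgroup X} (hNH : N ≤ H) (hn : H ≤ Subgroup.normalizer (N : Set X))
    (hN : IsPGroup p N) : N ≤ pCoreOf p H := by
  have : (N.subgroupOf H).Normal := Subgroup.normal_subgroupOf_iff_le_normalizer hNH |>.2 hn
  intro x hx
  exact ⟨⟨x, hNH hx⟩, Cfsg.Agent.Lib.Cores.le_pCore (hN := this) (hN.comap_subtype) hx, rfl⟩

theorem pCoreOf_le_sylow [Fact p.Prime] {T H : Subgroup X} [Finite H] (h : IsSylowIn p T H) :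
    pCoreOf p H ≤ T := by
  obtain ⟨S, rfl⟩ := h.exists_sylow
  exact Subgroup.map_mono (Cfsg.Agent.Lib.Cores.pCore_le_sylow S)

theorem pCoreOf_map {X' : Type*} [Group X'] (p : ℕ) (H : Subgroup X) (e : X →* X')
    (he : Function.Injective e) : (pCoreOf p H).map e = pCoreOf p (H.map e) := by
  have := Cfsg.Agent.Lib.Cores.map_pCore_equiv (p := p) (H.equivMapOfInjective e he)
  rw [pCoreOf, pCoreOf, ← this, Subgroup.map_map, Subgroup.map_map]
  congr 1

/-- `C_H(O_p(H)) ≤ O_p(H)`, in the ambient group. -/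
theorem charP_iff (p : ℕ) (H : Subgroup X) :
    Subgroup.centralizer (pCore p H : Set H) ≤ pCore p H ↔
      H ⊓ Subgroup.centralizer (pCoreOf p H : Set X) ≤ pCoreOf p H := by
  constructor
  · intro h x ⟨hx, hc⟩
    refine ⟨⟨x, hx⟩, h ?_, rfl⟩
    intro y hy
    exact Subtype.ext (hc _ ⟨y, hy, rfl⟩)
  · intro h x hx
    obtain ⟨y, hy, e⟩ := h (show (x : X) ∈ H ⊓ Subgroup.centralizer (pCoreOf p H : Set X) from
      ⟨x.2, by rintro z ⟨w, hw, rfl⟩; exact congrArg H.subtype (hx w hw)⟩)
    rwa [← Subtype.ext e]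

theorem charP_map {X' : Type*} [Group X'] (p : ℕ) (H : Subgroup X) (e : X →* X')
    (he : Function.Injective e) (h : H ⊓ Subgroup.centralizer (pCoreOf p H : Set X) ≤ pCoreOf p H) :
    H.map e ⊓ Subgroup.centralizer (pCoreOf p (H.map e) : Set X') ≤ pCoreOf p (H.map e) := by
  rw [← pCoreOf_map p H e he]
  rintro _ ⟨⟨x, hx, rfl⟩, hc⟩
  refine Subgroup.mem_map_of_mem e (h ⟨hx, fun y hy => he ?_⟩)
  simpa using hc (e y) (Subgroup.mem_map_of_mem e hy)

/-! ### omegaOne -/

theorem omegaOne_le (p : ℕ) (A : Subgroup X) : omegaOne p A ≤ A :=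
  (Subgroup.closure_le A).2 fun _ hx => hx.1

theorem omegaOne_mono (p : ℕ) {A B : Subgroup X} (h : A ≤ B) : omegaOne p A ≤ omegaOne p B :=
  Subgroup.closure_mono fun _ hx => ⟨h hx.1, hx.2⟩

theorem omegaOne_map {X' : Type*} [Group X'] (p : ℕ) (A : Subgroup X) (e : X →* X')
    (he : Function.Injective e) : (omegaOne p A).map e = omegaOne p (A.map e) := by
  rw [omegaOne, omegaOne, MonoidHom.map_closure]
  congr 1
  ext y
  constructor
  · rintro ⟨x, ⟨hx, hp⟩, rfl⟩
    exact ⟨Subgroup.mem_map_of_mem e hx, by rw [← map_pow, hp, map_one]⟩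
  · rintro ⟨⟨x, hx, rfl⟩, hp⟩
    exact ⟨x, ⟨hx, he (by rw [map_pow, hp, map_one])⟩, rfl⟩

theorem le_normalizer_omegaOne (p : ℕ) {A H : Subgroup X}
    (h : H ≤ Subgroup.normalizer (A : Set X)) : H ≤ Subgroup.normalizer (omegaOne p A : Set X) := by
  intro g hg
  rw [mem_normalizer_iff_map]
  exact (omegaOne_map p A _ (MulAut.conj g).injective).trans
    (congrArg (omegaOne p) (conj_map_eq_self (h hg)))

/-- In a finite `p`-subgroup, `Ω₁ = 1` only for the trivial subgroup. -/
theorem eq_bot_of_omegaOne_eq_bot [Fact p.Prime] {A : Subgroup X} [Finite A] (hA : IsPGroup p A)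
    (h : omegaOne p A = ⊥) : A = ⊥ := by
  rw [← Subgroup.card_eq_one]
  rcases hA.card_eq_or_dvd with h1 | h1
  · exact h1
  · obtain ⟨a, ha⟩ := exists_prime_orderOf_dvd_card' p h1
    have : (a : X) ∈ omegaOne p A := Subgroup.subset_closure ⟨a.2, by
      have := pow_orderOf_eq_one a
      rw [ha] at this
      exact_mod_cast congrArg Subtype.val this⟩
    rw [h, Subgroup.mem_bot] at this
    have : a = 1 := Subtype.ext this
    rw [this, orderOf_one] at ha
    exact absurd ha.symm (Nat.Prime.ne_one Fact.out)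

theorem centralizer_map_equiv (A : Subgroup X) (g : X) :
    (Subgroup.centralizer (A : Set X)).map (MulAut.conj g).toMonoidHom
      = Subgroup.centralizer (A.map (MulAut.conj g).toMonoidHom : Set X) := by
  ext y
  rw [Subgroup.mem_map_equiv, Subgroup.mem_centralizer_iff, Subgroup.mem_centralizer_iff]
  constructor
  · rintro h _ ⟨a, ha, rfl⟩
    simpa [mul_assoc] using congrArg (fun z => g * z * g⁻¹) (h a ha)
  · intro h a ha
    simpa [mul_assoc] using congrArg (fun z => g⁻¹ * z * g) (h _ ⟨a, ha, rfl⟩)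

/-- `Ω₁(Z(T))` in the ambient group. -/
abbrev omegaCenter (p : ℕ) (T : Subgroup X) : Subgroup X :=
  omegaOne p (T ⊓ Subgroup.centralizer (T : Set X))

theorem omegaCenter_conj (p : ℕ) (T : Subgroup X) (g : X) :
    (omegaCenter p T).map (MulAut.conj g).toMonoidHom
      = omegaCenter p (T.map (MulAut.conj g).toMonoidHom) := by
  rw [omegaCenter, omegaOne_map p _ _ (MulAut.conj g).injective,
    Subgroup.map_inf_eq _ _ _ (MulAut.conj g).injective, centralizer_map_equiv]

/-! ### sylowCenterClosure -/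

theorem omegaCenter_le_sylowCenterClosure [Fact p.Prime] {T H : Subgroup X} [Finite H]
    (h : IsSylowIn p T H) : omegaCenter p T ≤ sylowCenterClosure p H := by
  obtain ⟨S, rfl⟩ := h.exists_sylow
  exact le_iSup (fun S : Sylow p H => omegaCenter p ((S : Subgroup H).map H.subtype)) S

theorem sylowCenterClosure_le_iff [Fact p.Prime] {H K : Subgroup X} [Finite H] :
    sylowCenterClosure p H ≤ K ↔ ∀ T, IsSylowIn p T H → omegaCenter p T ≤ K :=
  ⟨fun h _ hT => (omegaCenter_le_sylowCenterClosure hT).trans h,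
    fun h => iSup_le fun S => h _ (isSylowIn_map_sylow S)⟩

theorem sylowCenterClosure_le_self (p : ℕ) (H : Subgroup X) : sylowCenterClosure p H ≤ H :=
  iSup_le fun _ => (omegaOne_le p _).trans (inf_le_left.trans (Subgroup.map_subtype_le _))

theorem le_normalizer_sylowCenterClosure [Fact p.Prime] (H : Subgroup X) [Finite H] :
    H ≤ Subgroup.normalizer (sylowCenterClosure p H : Set X) := by
  have key : ∀ g ∈ H, (sylowCenterClosure p H).map (MulAut.conj g).toMonoidHom
      ≤ sylowCenterClosure p H := by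
    intro g hg
    rw [Subgroup.map_le_iff_le_comap, sylowCenterClosure_le_iff]
    intro T hT
    rw [← Subgroup.map_le_iff_le_comap, omegaCenter_conj]
    have := hT.conj g
    rw [conj_map_eq_self (Subgroup.le_normalizer hg)] at this
    exact omegaCenter_le_sylowCenterClosure this
  intro g hg
  rw [mem_normalizer_iff_map]
  refine le_antisymm (key g hg) fun x hx => ?_
  exact ⟨g⁻¹ * x * g, by simpa using key g⁻¹ (H.inv_mem hg) ⟨x, hx, rfl⟩, by simp [mul_assoc]⟩

theorem sylowCenterClosure_le_pCoreOf [Fact p.Prime] {H : Subgroup X} [Finite H]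
    (hC : H ⊓ Subgroup.centralizer (pCoreOf p H : Set X) ≤ pCoreOf p H) :
    sylowCenterClosure p H ≤ pCoreOf p H :=
  sylowCenterClosure_le_iff.2 fun _ hT => (omegaOne_le p _).trans
    (le_trans (inf_le_inf hT.le (Subgroup.centralizer_le (pCoreOf_le_sylow hT))) hC)

/-! ### pElementClosure -/

theorem pElementClosure_le (p : ℕ) (H : Subgroup X) : pElementClosure p H ≤ H :=
  (Subgroup.closure_le H).2 fun _ hx => hx.1

theorem le_pElementClosure [Fact p.Prime] {P H : Subgroup X} (hP : IsPGroup p P) (hPH : P ≤ H) :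
    P ≤ pElementClosure p H := by
  intro x hx
  obtain ⟨k, hk⟩ := IsPGroup.iff_orderOf.1 hP ⟨x, hx⟩
  exact Subgroup.subset_closure ⟨hPH hx, k, (Subgroup.orderOf_coe ⟨x, hx⟩).trans hk⟩

theorem le_normalizer_pElementClosure (p : ℕ) (H : Subgroup X) :
    H ≤ Subgroup.normalizer (pElementClosure p H : Set X) := by
  intro g hg
  rw [mem_normalizer_iff_map, pElementClosure, MonoidHom.map_closure]
  congr 1
  ext y
  constructor
  · rintro ⟨x, ⟨hx, k, hk⟩, rfl⟩
    exact ⟨H.mul_mem (H.mul_mem hg hx) (H.inv_mem hg), k,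
      (orderOf_injective _ (MulAut.conj g).injective x).trans hk⟩
  · rintro ⟨hy, k, hk⟩
    refine ⟨g⁻¹ * y * g, ⟨H.mul_mem (H.mul_mem (H.inv_mem hg) hy) hg, k, ?_⟩, by simp [mul_assoc]⟩
    rw [← hk, ← orderOf_injective (MulAut.conj g).toMonoidHom (MulAut.conj g).injective (g⁻¹ * y * g)]
    congr 1
    simp [mul_assoc]

/-- Frattini argument for `O^{p'}(H)`. -/
theorem exists_mul_normalizer [Fact p.Prime] {T H : Subgroup X} [Finite H] (h : IsSylowIn p T H)
    {g : X} (hg : g ∈ H) : ∃ e ∈ pElementClosure p H,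
      ∃ n ∈ H ⊓ Subgroup.normalizer (T : Set X), g = e * n := by
  set E := pElementClosure p H
  have hEH : E ≤ H := pElementClosure_le p H
  have : Finite E := Finite.of_injective _ (Subgroup.inclusion_injective hEH)
  have hT : IsSylowIn p T E := h.of_le_le (le_pElementClosure h.isPGroup h.le) hEH
  have hTg : IsSylowIn p (T.map (MulAut.conj g).toMonoidHom) E := by
    have := hT.conj g
    rwa [conj_map_eq_self (le_normalizer_pElementClosure p H hg)] at this
  obtain ⟨e, he, hee⟩ := hT.exists_conj hTg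
  refine ⟨e, he, e⁻¹ * g, ⟨H.mul_mem (H.inv_mem (hEH he)) hg, ?_⟩, by group⟩
  apply mem_normalizer_iff_map.2
  have hc : ∀ a b : X, T.map (MulAut.conj (a * b)).toMonoidHom
      = (T.map (MulAut.conj b).toMonoidHom).map (MulAut.conj a).toMonoidHom := by
    intro a b
    rw [Subgroup.map_map]
    congr 1
    ext x
    simp [mul_assoc]
  calc T.map (MulAut.conj (e⁻¹ * g)).toMonoidHom
      = T.map (MulAut.conj (e⁻¹ * e)).toMonoidHom := by rw [hc, hc, hee]
    _ = T := by rw [inv_mul_cancel, map_one]; exact T.map_id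

end Cfsg.Agent.Lib.CosetGraph.SylowIn
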