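import Cfsg.Prelude.Def_Amalgam

/-!
Basic API for the coset graph of a pair of subgroups: adjacency, the action by graph automorphisms,
stabilizers, transitivity of vertex stabilizers on neighbours, connectivity, faithfulness.
-/

set_option autoImplicit false

namespace Cfsg.Agent.Lib.CosetGraph.Basic

open Cfsg

variable {X : Type*} [Group X] {M₁ M₂ : Subgroup X}

theorem adj_iff {a b : CosetVertex M₁ M₂} :
    (cosetGraph M₁ M₂).Adj a b ↔
      (∃ x : X, a = Sum.inl (x : X ⧸ M₁) ∧ b = Sum.inr (x : X ⧸ M₂)) ∨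
      (∃ x : X, b = Sum.inl (x : X ⧸ M₁) ∧ a = Sum.inr (x : X ⧸ M₂)) := by
  simp only [cosetGraph, SimpleGraph.fromRel_adj]
  refine ⟨fun h => h.2, fun h => ⟨?_, h⟩⟩
  rcases h with ⟨x, rfl, rfl⟩ | ⟨x, rfl, rfl⟩ <;> simp

theorem adj_inl_inr (x : X) :
    (cosetGraph M₁ M₂).Adj (Sum.inl (x : X ⧸ M₁)) (Sum.inr (x : X ⧸ M₂)) :=
  adj_iff.2 (Or.inl ⟨x, rfl, rfl⟩)

theorem smul_inl_mk (g x : X) :
    g • (Sum.inl (x : X ⧸ M₁) : CosetVertex M₁ M₂) = Sum.inl ((g * x : X) : X ⧸ M₁) := rfl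

theorem smul_inr_mk (g x : X) :
    g • (Sum.inr (x : X ⧸ M₂) : CosetVertex M₁ M₂) = Sum.inr ((g * x : X) : X ⧸ M₂) := rfl

theorem adj_smul (g : X) {a b : CosetVertex M₁ M₂} (h : (cosetGraph M₁ M₂).Adj a b) :
    (cosetGraph M₁ M₂).Adj (g • a) (g • b) := by
  rw [adj_iff] at h ⊢
  rcases h with ⟨x, rfl, rfl⟩ | ⟨x, rfl, rfl⟩
  · exact Or.inl ⟨g * x, rfl, rfl⟩
  · exact Or.inr ⟨g * x, rfl, rfl⟩

theorem adj_smul_iff (g : X) {a b : CosetVertex M₁ M₂} :
    (cosetGraph M₁ M₂).Adj (g • a) (g • b) ↔ (cosetGraph M₁ M₂).Adj a b :=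
  ⟨fun h => by simpa using adj_smul g⁻¹ h, adj_smul g⟩

/-- Left multiplication as an automorphism of the coset graph. -/
def smulIso (g : X) : cosetGraph M₁ M₂ ≃g cosetGraph M₁ M₂ where
  toEquiv := MulAction.toPerm g
  map_rel_iff' := adj_smul_iff g

theorem stabilizer_inl (x : X) :
    MulAction.stabilizer X (Sum.inl (x : X ⧸ M₁) : CosetVertex M₁ M₂)
      = M₁.map (MulAut.conj x).toMonoidHom := by
  ext g
  rw [MulAction.mem_stabilizer_iff, smul_inl_mk, Sum.inl.injEq, QuotientGroup.eq, Subgroup.mem_map_equiv,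
    MulAut.conj_symm_apply]
  constructor <;> intro h <;> simpa [mul_assoc] using M₁.inv_mem h

theorem stabilizer_inr (x : X) :
    MulAction.stabilizer X (Sum.inr (x : X ⧸ M₂) : CosetVertex M₁ M₂)
      = M₂.map (MulAut.conj x).toMonoidHom := by
  ext g
  rw [MulAction.mem_stabilizer_iff, smul_inr_mk, Sum.inr.injEq, QuotientGroup.eq, Subgroup.mem_map_equiv,
    MulAut.conj_symm_apply]
  constructor <;> intro h <;> simpa [mul_assoc] using M₂.inv_mem h

theorem stabilizer_inl_one :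
    MulAction.stabilizer X (Sum.inl ((1 : X) : X ⧸ M₁) : CosetVertex M₁ M₂) = M₁ := by
  rw [stabilizer_inl, map_one]
  exact M₁.map_id

theorem stabilizer_inr_one :
    MulAction.stabilizer X (Sum.inr ((1 : X) : X ⧸ M₂) : CosetVertex M₁ M₂) = M₂ := by
  rw [stabilizer_inr, map_one]
  exact M₂.map_id

theorem edgeStabilizer_eq (x : X) :
    edgeStabilizer (Sum.inl (x : X ⧸ M₁) : CosetVertex M₁ M₂) (Sum.inr (x : X ⧸ M₂))
      = (M₁ ⊓ M₂).map (MulAut.conj x).toMonoidHom := by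
  rw [edgeStabilizer, stabilizer_inl, stabilizer_inr,
    Subgroup.map_inf_eq _ _ _ (MulAut.conj x).injective]

theorem edgeStabilizer_comm (a b : CosetVertex M₁ M₂) : edgeStabilizer a b = edgeStabilizer b a :=
  inf_comm _ _

/-- Every edge has the form `{x M₁, x M₂}`. -/
theorem exists_edge_rep {a b : CosetVertex M₁ M₂} (h : (cosetGraph M₁ M₂).Adj a b) :
    ∃ x : X, edgeStabilizer a b = (M₁ ⊓ M₂).map (MulAut.conj x).toMonoidHom ∧
      ((MulAction.stabilizer X a = M₁.map (MulAut.conj x).toMonoidHom ∧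
          MulAction.stabilizer X b = M₂.map (MulAut.conj x).toMonoidHom) ∨
        (MulAction.stabilizer X a = M₂.map (MulAut.conj x).toMonoidHom ∧
          MulAction.stabilizer X b = M₁.map (MulAut.conj x).toMonoidHom)) := by
  rcases adj_iff.1 h with ⟨x, rfl, rfl⟩ | ⟨x, rfl, rfl⟩
  · exact ⟨x, edgeStabilizer_eq x, Or.inl ⟨stabilizer_inl x, stabilizer_inr x⟩⟩
  · exact ⟨x, (edgeStabilizer_comm _ _).trans (edgeStabilizer_eq x),
      Or.inr ⟨stabilizer_inr x, stabilizer_inl x⟩⟩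

theorem exists_adj (δ : CosetVertex M₁ M₂) : ∃ μ, (cosetGraph M₁ M₂).Adj δ μ := by
  rcases δ with q | q <;> induction q using QuotientGroup.induction_on with
  | _ x => first
    | exact ⟨_, adj_inl_inr x⟩
    | exact ⟨_, (adj_inl_inr x).symm⟩

/-- The stabilizer of a vertex is transitive on its neighbours. -/
theorem exists_stabilizer_smul_eq {δ μ μ' : CosetVertex M₁ M₂}
    (hμ : (cosetGraph M₁ M₂).Adj δ μ) (hμ' : (cosetGraph M₁ M₂).Adj δ μ') :
    ∃ g ∈ MulAction.stabilizer X δ, g • μ = μ' := by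
  rcases adj_iff.1 hμ with ⟨x, rfl, rfl⟩ | ⟨x, rfl, rfl⟩ <;>
    rcases adj_iff.1 hμ' with ⟨y, hy, rfl⟩ | ⟨y, rfl, hy⟩
  · exact ⟨y * x⁻¹, by rw [MulAction.mem_stabilizer_iff, smul_inl_mk, inv_mul_cancel_right, ← hy],
      by rw [smul_inr_mk, inv_mul_cancel_right]⟩
  · exact absurd hy Sum.inl_ne_inr
  · exact absurd hy Sum.inr_ne_inl
  · exact ⟨y * x⁻¹, by rw [MulAction.mem_stabilizer_iff, smul_inr_mk, inv_mul_cancel_right, ← hy],
      by rw [smul_inl_mk, inv_mul_cancel_right]⟩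

theorem reachable_one_smul (hgen : M₁ ⊔ M₂ = ⊤) (g : X) :
    (cosetGraph M₁ M₂).Reachable (Sum.inl ((1 : X) : X ⧸ M₁))
      (g • (Sum.inl ((1 : X) : X ⧸ M₁))) := by
  have key : ∀ a b : X, (cosetGraph M₁ M₂).Reachable (Sum.inl ((1 : X) : X ⧸ M₁))
      (a • (Sum.inl ((1 : X) : X ⧸ M₁))) →
    (cosetGraph M₁ M₂).Reachable (Sum.inl ((1 : X) : X ⧸ M₁))
      (b • (Sum.inl ((1 : X) : X ⧸ M₁))) →
    (cosetGraph M₁ M₂).Reachable (Sum.inl ((1 : X) : X ⧸ M₁))
      ((a * b) • (Sum.inl ((1 : X) : X ⧸ M₁))) := by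
    intro a b ha hb
    rw [mul_smul]
    exact ha.trans (hb.map (smulIso a).toHom)
  have hg : g ∈ Subgroup.closure ((M₁ : Set X) ∪ M₂) := by
    rw [Subgroup.closure_union, Subgroup.closure_eq, Subgroup.closure_eq, hgen]; trivial
  induction hg using Subgroup.closure_induction with
  | mem m hm =>
    rcases hm with hm | hm
    · have : m • (Sum.inl ((1 : X) : X ⧸ M₁) : CosetVertex M₁ M₂) = Sum.inl ((1 : X) : X ⧸ M₁) := by
        rw [← MulAction.mem_stabilizer_iff, stabilizer_inl_one]; exact hm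
      rw [this]
    · have h2 : m • (Sum.inr ((1 : X) : X ⧸ M₂) : CosetVertex M₁ M₂) = Sum.inr ((1 : X) : X ⧸ M₂) := by
        rw [← MulAction.mem_stabilizer_iff, stabilizer_inr_one]; exact hm
      have h3 := adj_smul (M₁ := M₁) (M₂ := M₂) m (adj_inl_inr 1)
      rw [h2] at h3
      exact ((adj_inl_inr 1).reachable).trans h3.symm.reachable
  | one => rw [one_smul]
  | mul a b _ _ ha hb => exact key a b ha hb
  | inv a _ ha =>
    have := (ha.map (smulIso a⁻¹).toHom).symm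
    simpa [smulIso] using this

theorem connected (hgen : M₁ ⊔ M₂ = ⊤) : (cosetGraph M₁ M₂).Connected := by
  have base : ∀ v, (cosetGraph M₁ M₂).Reachable (Sum.inl ((1 : X) : X ⧸ M₁)) v := by
    rintro (q | q) <;> induction q using QuotientGroup.induction_on with
    | _ x => ?_
    · have := reachable_one_smul (M₁ := M₁) (M₂ := M₂) hgen x
      rwa [smul_inl_mk, mul_one] at this
    · have := reachable_one_smul (M₁ := M₁) (M₂ := M₂) hgen x
      rw [smul_inl_mk, mul_one] at this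
      exact this.trans (adj_inl_inr x).reachable
  have : Nonempty (CosetVertex M₁ M₂) := ⟨Sum.inl ((1 : X) : X ⧸ M₁)⟩
  exact SimpleGraph.Connected.mk fun u v => (base u).symm.trans (base v)

/-- A subgroup fixing every vertex is trivial in an amalgam pair. -/
theorem eq_bot_of_forall_fix (hcore : ∀ N : Subgroup X, N ≤ M₁ ⊓ M₂ → N.Normal → N = ⊥)
    (T : Subgroup X) (h : ∀ v : CosetVertex M₁ M₂, T ≤ MulAction.stabilizer X v) : T = ⊥ := by
  have hker : (MulAction.toPermHom X (CosetVertex M₁ M₂)).ker = ⊥ := by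
    refine hcore _ ?_ inferInstance
    intro g hg
    rw [Subgroup.mem_inf]
    have hg' := fun v => congrArg (fun e : Equiv.Perm (CosetVertex M₁ M₂) => e v) hg
    refine ⟨?_, ?_⟩
    · rw [← stabilizer_inl_one (M₁ := M₁) (M₂ := M₂), MulAction.mem_stabilizer_iff]
      simpa using hg' (Sum.inl ((1 : X) : X ⧸ M₁))
    · rw [← stabilizer_inr_one (M₁ := M₁) (M₂ := M₂), MulAction.mem_stabilizer_iff]
      simpa using hg' (Sum.inr ((1 : X) : X ⧸ M₂))
  rw [eq_bot_iff, ← hker]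
  exact fun t ht => Equiv.ext fun v => h v ht

theorem stabilizer_smul_eq_map (g : X) (v : CosetVertex M₁ M₂) :
    MulAction.stabilizer X (g • v) = (MulAction.stabilizer X v).map (MulAut.conj g).toMonoidHom :=
  MulAction.stabilizer_smul_eq_stabilizer_map_conj g v

/-- If the normalizer of a subgroup fixing an edge is transitive on the neighbours of both ends,
the subgroup fixes every vertex. -/
theorem eq_bot_of_normalizer_transitive (h : IsAmalgamPair M₁ M₂) {δ μ : CosetVertex M₁ M₂}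
    (hμ : (cosetGraph M₁ M₂).Adj δ μ) (T : Subgroup X) (hT : T ≤ edgeStabilizer δ μ)
    (hδ : ∀ ν ν', (cosetGraph M₁ M₂).Adj δ ν → (cosetGraph M₁ M₂).Adj δ ν' →
      ∃ g ∈ Subgroup.normalizer (T : Set X) ⊓ MulAction.stabilizer X δ, g • ν = ν')
    (hμ' : ∀ ν ν', (cosetGraph M₁ M₂).Adj μ ν → (cosetGraph M₁ M₂).Adj μ ν' →
      ∃ g ∈ Subgroup.normalizer (T : Set X) ⊓ MulAction.stabilizer X μ, g • ν = ν') :
    T = ⊥ := by
  obtain ⟨hgen, -, -, hcore⟩ := h
  refine eq_bot_of_forall_fix hcore T ?_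
  set H := Subgroup.normalizer (T : Set X) with hH
  have step : ∀ v w, (cosetGraph M₁ M₂).Adj v w → (∃ g ∈ H, v = g • δ ∨ v = g • μ) →
      ∃ g ∈ H, w = g • δ ∨ w = g • μ := by
    rintro v w hvw ⟨g, hg, rfl | rfl⟩
    · have hw : (cosetGraph M₁ M₂).Adj δ (g⁻¹ • w) := by simpa using adj_smul g⁻¹ hvw
      obtain ⟨k, hk, hkw⟩ := hδ μ _ hμ hw
      exact ⟨g * k, H.mul_mem hg hk.1, Or.inr (by rw [mul_smul, hkw, smul_inv_smul])⟩
    · have hw : (cosetGraph M₁ M₂).Adj μ (g⁻¹ • w) := by simpa using adj_smul g⁻¹ hvw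
      obtain ⟨k, hk, hkw⟩ := hμ' δ _ hμ.symm hw
      exact ⟨g * k, H.mul_mem hg hk.1, Or.inl (by rw [mul_smul, hkw, smul_inv_smul])⟩
  have reach : ∀ v, ∃ g ∈ H, v = g • δ ∨ v = g • μ := by
    intro v
    obtain ⟨p⟩ := (connected hgen).preconnected δ v
    suffices ∀ a b (p : (cosetGraph M₁ M₂).Walk a b), (∃ g ∈ H, a = g • δ ∨ a = g • μ) →
        ∃ g ∈ H, b = g • δ ∨ b = g • μ from
      this δ v p ⟨1, H.one_mem, Or.inl (one_smul _ _).symm⟩
    intro a b p
    induction p with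
    | nil => exact id
    | cons hadj _ ih => exact fun ha => ih (step _ _ hadj ha)
  intro v t ht
  obtain ⟨g, hg, hv⟩ := reach v
  have ht' : g⁻¹ * t * g ∈ T := (Subgroup.mem_normalizer_iff''.1 hg t).1 ht
  have := hT ht'
  rcases hv with rfl | rfl
  · have h1 : (g⁻¹ * t * g) • δ = δ := this.1
    rw [mul_smul, mul_smul, inv_smul_eq_iff] at h1
    exact h1
  · have h1 : (g⁻¹ * t * g) • μ = μ := this.2
    rw [mul_smul, mul_smul, inv_smul_eq_iff] at h1
    exact h1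

end Cfsg.Agent.Lib.CosetGraph.Basic
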